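import Cfsg.Agent.R2.Spec.EE.Main
import Cfsg.Agent.R2.Spec.EE.MainSA

/-!
# The rows of the small ranks, from their pieces (helper13)

* `NoR t t' T k` : the row `t × t'` is empty;
* `SmB` : the pieces; `rowEx_small` : the rows of the small ranks; `rowEx_all` : all ranks.
-/

set_option autoImplicit false
set_option linter.unusedSectionVars false
set_option linter.unusedVariables false

namespace Cfsg.Agent.R2.Spec.EE

open Subgroup Cfsg
open Cfsg.Agent.H426.LieFam Cfsg.Agent.R2.Spec Cfsg.Agent.R2.Spec.P1 Cfsg.Agent.R2.Spec.F1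
open Cfsg.Agent.R2.Spec.Asm

universe u w

/-- the row `t × t'` is empty -/
def NoR (t t' : Fam) (T : Tab) (k : ℕ → ℕ → ℕ → ℕ) : Prop :=
  ∀ {p f : ℕ} {L : Type} [Group L] [Finite L] {G : Type} [Group G] [Finite G] {K : Subgroup G} [K.Normal]
    {S : Subgroup (G ⧸ K)} [S.Normal] {v f' : ℕ}, EX t p f L G K S t' v f' T (k v f') → False

/-- the pieces of the small ranks -/
structure SmB : Prop where
  e8 : ∀ t, Sm t → NoR t .e8 tabE8 fun v f' => kE8 (v ^ f')
  e7 : ∀ t, Sm t → NoR t .e7 tabE7 fun v f' => kcl clE7 (v ^ f')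
  e6 : ∀ t, Sm t → t ∉ ls6 → NoR t .e6 tabE6 fun v f' => kcl clE6 (v ^ f')
  te6 : ∀ t, Sm t → t ∉ lst6 → NoR t .te6 tabTE6 fun v f' => kcl clTE6 (v ^ f')
  f4 : ∀ t, Sm t → t ∉ lsf → NoR t .f4 tabF4 fun v f' => kcl clF4 (v ^ f')
  tf4 : ∀ t, Sm t → t ∉ kstf → NoR t .tf4 tabTF4 fun _ f' => kTF4 f'
  ree : ∀ t, Sm t → t ∉ ksr → NoR t .ree tabRee fun _ f' => kRee f'

theorem rk_of_sm {t : Fam} (ht : Sm t) : 3 ≤ rk t := by
  rw [sm_iff] at ht
  rcases ht with rfl | rfl | rfl | rfl | rfl | rfl | rfl | rfl | rfl | rfl | rfl | rfl | rfl | rfl <;>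
    exact Nat.le_of_ble_eq_true rfl

/-- **No exceptional section, small rank, from the pieces.** -/
theorem rowEx_small (B : SmB) {t : Fam} (ht : Sm t) : RowEx t := by
  intro p f L _ _ G _ _ K _ S _ t' v f' h
  have hex : ∀ {T : Tab} {k : ℕ → ℕ}, EF G K S v f' T k → EX t p f L G K S t' v f' T k := fun he =>
    ⟨h.p2, h.vp, h.ls, h.is, rk_of_sm ht, h.red, h.frm, he⟩
  have he := h.frm.exc
  cases t' with
  | e8 => exact B.e8 t ht (hex (ef_e8 h.frm))
  | e7 => exact B.e7 t ht (hex (ef_e7 h.frm))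
  | e6 =>
    by_cases h1 : t ∈ ls6
    · exact sm_e60 (hex (ef_e6 h.frm)) h1
    · exact B.e6 t ht h1 (hex (ef_e6 h.frm))
  | te6 =>
    by_cases h1 : t ∈ lst6
    · exact sm_te60 (hex (ef_te6 h.frm)) h1
    · exact B.te6 t ht h1 (hex (ef_te6 h.frm))
  | f4 =>
    by_cases h1 : t ∈ lsf
    · exact sm_f40 (hex (ef_f4 h.frm)) h1
    · exact B.f4 t ht h1 (hex (ef_f4 h.frm))
  | tf4 =>
    by_cases h1 : t ∈ kstf
    · exact sm_tf40 (hex (ef_tf4 h.frm)) h1
    · exact B.tf4 t ht h1 (hex (ef_tf4 h.frm))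
  | ree =>
    by_cases h1 : t ∈ ksr
    · exact sm_ree0 (hex (ef_ree h.frm)) h1
    · exact B.ree t ht h1 (hex (ef_ree h.frm))
  | g2 => exact sm_g2 (hex (ef_g2 h.frm)) ht
  | td4 => exact sm_td4 (hex (ef_td4 h.frm)) ht
  | sz => exact sm_sz (hex (ef_sz h.frm)) ht
  | psl n => exact he.elim
  | psp n => exact he.elim
  | psu n => exact he.elim
  | oodd n => exact he.elim
  | oplus n => exact he.elim
  | ominus n => exact he.elim

theorem lg_or_sm {t : Fam} (ht : Classical t) (h5 : 5 ≤ rk t) (ho : ¬ OthT t) : Lg t ∨ Sm t := by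
  rw [sm_iff]
  cases t with
  | psl n =>
    change 5 ≤ n at h5
    rcases Nat.lt_or_ge n 9 with h | h
    · interval_cases n
      · exact absurd (Or.inl rfl) ho
      · exact absurd (Or.inr (Or.inl rfl)) ho
      · exact absurd (Or.inr (Or.inr (Or.inl rfl))) ho
      · exact Or.inr (Or.inl rfl)
    · exact Or.inl h
  | psu n =>
    change 5 ≤ n at h5
    rcases Nat.lt_or_ge n 9 with h | h
    · interval_cases n
      · exact absurd (Or.inr (Or.inr (Or.inr (Or.inl rfl)))) ho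
      · exact absurd (Or.inr (Or.inr (Or.inr (Or.inr (Or.inl rfl))))) ho
      · exact absurd (Or.inr (Or.inr (Or.inr (Or.inr (Or.inr rfl))))) ho
      · exact Or.inr (Or.inr (Or.inl rfl))
    · exact Or.inl h
  | psp n =>
    change 5 ≤ n at h5
    rcases Nat.lt_or_ge n 8 with h | h
    · interval_cases n <;> exact Or.inr (by simp)
    · exact Or.inl h
  | oodd n =>
    change 5 ≤ n at h5
    rcases Nat.lt_or_ge n 8 with h | h
    · interval_cases n <;> exact Or.inr (by simp)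
    · exact Or.inl h
  | oplus n =>
    change 5 ≤ n at h5
    rcases Nat.lt_or_ge n 8 with h | h
    · interval_cases n <;> exact Or.inr (by simp)
    · exact Or.inl h
  | ominus n =>
    change 5 ≤ n at h5
    rcases Nat.lt_or_ge n 8 with h | h
    · interval_cases n <;> exact Or.inr (by simp)
    · exact Or.inl h
  | _ => exact ht.elim

/-- **No exceptional section, from the pieces.** -/
theorem rowEx_all (B : SmB) : ∀ t : Fam, Classical t → 5 ≤ rk t → ¬ OthT t → RowEx t := fun t ht h5 ho => by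
  rcases lg_or_sm ht h5 ho with h | h
  · exact rowEx_large h
  · exact rowEx_small B h

end Cfsg.Agent.R2.Spec.EE
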